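/-
Objects acyclic for a left exact functor; bounded below complexes of acyclic objects.
-/
import Groth.Agent.ModShf.AcyclicRes
import Groth.Agent.RDerLES
import Mathlib.Algebra.Homology.DerivedCategory.Basic
import Mathlib.Algebra.Homology.HomotopyCategory.Triangulated
import Mathlib.Algebra.Homology.Embedding.CochainComplex
import Mathlib.Algebra.Homology.HomotopyCategory.Plus
import Mathlib.Algebra.Homology.DerivedCategory.Fractions

universe w v v' u u'

open CategoryTheory CategoryTheory.Limits

namespace Groth.Agent.GrothSS.Acyclic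

variable {B : Type u} [Category.{v} B] [Abelian B] [EnoughInjectives B]
  {C : Type u'} [Category.{v'} C] [Abelian C] (F : B ⥤ C) [F.Additive]

/-- objects on which the higher right derived functors vanish -/
def Acy : ObjectProperty B := fun X => ∀ q : ℕ, 0 < q → IsZero ((F.rightDerived q).obj X)

lemma acy_of_injective (X : B) [Injective X] : Acy F X := fun q hq => by
  obtain ⟨k, rfl⟩ : ∃ k, q = k + 1 := ⟨q - 1, by omega⟩
  exact F.isZero_rightDerived_obj_injective_succ k X

lemma acy_of_isZero {X : B} (h : IsZero X) : Acy F X :=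
  have := h.injective
  acy_of_injective F X

lemma acy_biprod {X Y : B} (hX : Acy F X) (hY : Acy F Y) : Acy F (X ⊞ Y) := fun q hq => by
  have := RDer.rightDerived_additive F q
  have := (F.rightDerived q).preservesFiniteBiproductsOfAdditive
  have := preservesBinaryBiproduct_of_preservesBiproduct (F.rightDerived q) X Y
  exact IsZero.of_iso ((biprod_isZero_iff _ _).2 ⟨hX q hq, hY q hq⟩)
    ((F.rightDerived q).mapBiprod X Y)

lemma acy_middle {S : ShortComplex B} (hS : S.ShortExact) (h₁ : Acy F S.X₁) (h₃ : Acy F S.X₃) :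
    Acy F S.X₂ := fun q hq =>
  ((Groth.Agent.RDerLES.derivedLES F).exact₂ S hS q).isZero_of_both_zeros
    ((h₁ q hq).eq_of_src _ _) ((h₃ q hq).eq_of_tgt _ _)

lemma acy_coker {S : ShortComplex B} (hS : S.ShortExact) (h₁ : Acy F S.X₁) (h₂ : Acy F S.X₂) :
    Acy F S.X₃ := fun q hq =>
  ((Groth.Agent.RDerLES.derivedLES F).exact₃ S hS q (q + 1) rfl).isZero_of_both_zeros
    ((h₂ q hq).eq_of_src _ _) ((h₁ (q + 1) (by omega)).eq_of_tgt _ _)

variable [PreservesFiniteLimits F]

lemma epi_map {S : ShortComplex B} (hS : S.ShortExact) (h₁ : Acy F S.X₁) : Epi (F.map S.g) := by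
  have h : Epi ((F.rightDerived 0).map S.g) :=
    ((Groth.Agent.RDerLES.derivedLES F).exact₃ S hS 0 1 rfl).epi_f ((h₁ 1 (by omega)).eq_of_tgt _ _)
  exact ((MorphismProperty.epimorphisms C).arrow_mk_iso_iff
    (Arrow.isoMk (F.rightDerivedZeroIsoSelf.app S.X₂) (F.rightDerivedZeroIsoSelf.app S.X₃)
      (F.rightDerivedZeroIsoSelf.hom.naturality S.g).symm :
      Arrow.mk ((F.rightDerived 0).map S.g) ≅ Arrow.mk (F.map S.g))).1 h

theorem goodClass : Groth.Agent.ModShf.AcyclicRes.GoodClass F (Acy F) :=
  ⟨fun X _ => acy_of_injective F X, fun _ hS h₁ h₂ => acy_coker F hS h₁ h₂,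
    fun _ hS h₁ => epi_map F hS h₁⟩

section IntComplex

variable {F} {P : ObjectProperty B} (hP : Groth.Agent.ModShf.AcyclicRes.GoodClass F P)
include hP

omit [EnoughInjectives B] in
/-- `F` of an exact bounded below complex of acyclic objects is exact -/
theorem map_acyclic (Q : CochainComplex B ℤ) (a : ℤ) [Q.IsStrictlyGE a] (hQ : Q.Acyclic)
    (hterm : ∀ n, P (Q.X n)) : ((F.mapHomologicalComplex _).obj Q).Acyclic := by
  have hsc : ∀ n, (ShortComplex.mk (Q.iCycles n) (Q.toCycles n (n + 1))
      (by rw [← cancel_mono (Q.iCycles (n + 1))]; simp)).ShortExact := by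
    intro n
    have hepi : Epi (Q.toCycles n (n + 1)) := Preadditive.epi_of_cancel_zero _ fun g hg => by
      let hc := Q.homologyIsCokernel n (n + 1) (by simp)
      obtain ⟨l, hl⟩ := CokernelCofork.IsColimit.desc' hc g hg
      rw [← hl]
      exact (congrArg (· ≫ l)
        (((Q.exactAt_iff_isZero_homology (n + 1)).1 (hQ (n + 1))).eq_of_tgt _ 0)).trans zero_comp
    refine ShortComplex.ShortExact.mk' ?_ inferInstance hepi
    apply ShortComplex.exact_of_f_is_kernel
    refine KernelFork.IsLimit.ofι' _ _ fun k hk => ⟨Q.liftCycles k (n + 1) (by simp)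
      (by simpa using congrArg (· ≫ Q.iCycles (n + 1)) hk), Q.liftCycles_i _ _ _ _⟩
  have hcyc : ∀ n, P (Q.cycles n) := by
    have h0 : ∀ n, n < a → P (Q.cycles n) := fun n hn => hP.of_injective _ (IsZero.injective
      (IsZero.of_mono (Q.iCycles n) (Q.isZero_of_isStrictlyGE a n hn)))
    suffices ∀ (k : ℕ) (n : ℤ), n < a + k → P (Q.cycles n) from
      fun n => this ((n - a).toNat + 1) n (by omega)
    intro k
    induction k with
    | zero => exact fun n hn => h0 n (by omega)
    | succ k ih =>
      intro n hn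
      by_cases hn' : n < a + k
      · exact ih n hn'
      · have h := hP.coker _ (hsc (n - 1)) (ih (n - 1) (by omega)) (hterm _)
        change P (Q.cycles (n - 1 + 1)) at h
        rwa [show n - 1 + 1 = n by omega] at h
  intro i
  obtain ⟨n, rfl⟩ : ∃ n, i = n + 1 := ⟨i - 1, by omega⟩
  rw [HomologicalComplex.exactAt_iff' _ n (n + 1) (n + 1 + 1) (by simp) (by simp)]
  have hex : (ShortComplex.mk (F.map (Q.iCycles (n + 1))) (F.map (Q.d (n + 1) (n + 1 + 1)))
      (by rw [← F.map_comp, Q.iCycles_d, F.map_zero])).Exact :=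
    (ShortComplex.exact_of_f_is_kernel (ShortComplex.mk _ _ (Q.iCycles_d (n + 1) (n + 1 + 1)))
      (Q.cyclesIsKernel (n + 1) (n + 1 + 1) (by simp))).map_of_mono_of_preservesKernel F
        inferInstance inferInstance
  let φ : ShortComplex.mk (F.map (Q.d n (n + 1))) (F.map (Q.d (n + 1) (n + 1 + 1)))
      (by rw [← F.map_comp, Q.d_comp_d, F.map_zero]) ⟶
      ShortComplex.mk (F.map (Q.iCycles (n + 1))) (F.map (Q.d (n + 1) (n + 1 + 1)))
        (by rw [← F.map_comp, Q.iCycles_d, F.map_zero]) :=
    { τ₁ := F.map (Q.toCycles n (n + 1))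
      τ₂ := 𝟙 _
      τ₃ := 𝟙 _
      comm₁₂ := by
        dsimp
        rw [← F.map_comp, Q.toCycles_i, Category.comp_id]
      comm₂₃ := by simp }
  have : Epi φ.τ₁ := hP.epi _ (hsc n) (hcyc n)
  have : IsIso φ.τ₂ := inferInstanceAs (IsIso (𝟙 _))
  have : Mono φ.τ₃ := inferInstanceAs (Mono (𝟙 _))
  exact (ShortComplex.exact_iff_of_epi_of_isIso_of_mono φ).2 hex

omit [EnoughInjectives B] in
/-- `F` preserves quasi-isomorphisms of bounded below complexes of acyclic objects -/
theorem isIso_Q_map [HasDerivedCategory.{w} C] (hsum : ∀ X Y : B, P X → P Y → P (X ⊞ Y))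
    {K L : CochainComplex B ℤ} (f : K ⟶ L) [QuasiIso f] (a b : ℤ) [K.IsStrictlyGE a]
    [L.IsStrictlyGE b] [P.IsClosedUnderIsomorphisms] (hK : ∀ n, P (K.X n)) (hL : ∀ n, P (L.X n)) :
    IsIso (DerivedCategory.Q.map ((F.mapHomologicalComplex _).map f)) := by
  have hac : (CochainComplex.mappingCone f).Acyclic := fun i =>
    (HomologicalComplex.exactAt_iff_isZero_homology _ i).2 (by
      have h := (HomotopyCategory.quasiIso_eq_trW_subcategoryAcyclic B).le
        ((HomotopyCategory.quotient B (ComplexShape.up ℤ)).map f)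
        (by rw [HomotopyCategory.quotient_map_mem_quasiIso_iff,
          HomologicalComplex.mem_quasiIso_iff]; infer_instance)
      have h' := ((HomotopyCategory.subcategoryAcyclic B).trW_iff_of_distinguished _
        (HomotopyCategory.mappingCone_triangleh_distinguished f)).1 h
      exact (HomologicalComplex.exactAt_iff_isZero_homology _ i).1
        ((HomotopyCategory.quotient_obj_mem_subcategoryAcyclic_iff_acyclic _).1 h' i))
  have : (CochainComplex.mappingCone f).IsStrictlyGE (min (a - 1) b) :=
    CochainComplex.isStrictlyGE_mappingCone f a b _ (by omega) (by omega)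
  have hterm : ∀ n, P ((CochainComplex.mappingCone f).X n) := fun n =>
    P.prop_of_iso (HomologicalComplex.homotopyCofiber.XIsoBiprod f n (n + 1) rfl).symm
      (hsum _ _ (hK _) (hL _))
  have hz := map_acyclic hP (CochainComplex.mappingCone f) (min (a - 1) b) hac hterm
  have hd := (F.mapHomotopyCategory (ComplexShape.up ℤ)).map_distinguished _
    (HomotopyCategory.mappingCone_triangleh_distinguished f)
  have hW := ((HomotopyCategory.subcategoryAcyclic C).trW_iff_of_distinguished _ hd).2
    ((HomotopyCategory.quotient_obj_mem_subcategoryAcyclic_iff_acyclic _).2 hz)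
  rw [← HomotopyCategory.quasiIso_eq_trW_subcategoryAcyclic] at hW
  have hq : HomologicalComplex.quasiIso C (ComplexShape.up ℤ) ((F.mapHomologicalComplex _).map f) :=
    (HomotopyCategory.quotient_map_mem_quasiIso_iff _).1 hW
  exact Localization.inverts DerivedCategory.Q _ _ hq

end IntComplex

end Groth.Agent.GrothSS.Acyclic
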