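/-
A first quadrant spectral object gives an `E₂` spectral sequence with a finitely filtered abutment.
-/
import Groth.Prelude.Def_SpSeq
import Mathlib.Algebra.Homology.SpectralObject.SpectralSequence
import Mathlib.CategoryTheory.Triangulated.SpectralObject
import Mathlib.CategoryTheory.Triangulated.HomologicalFunctor
import Mathlib.Data.Int.Interval

universe v u

open CategoryTheory CategoryTheory.Limits CategoryTheory.ComposableArrows

namespace Groth.Agent.GrothSS.Core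

section MapHomological

variable {T A ι : Type*} [Category T] [Category A] [Category ι] [Preadditive T] [HasZeroObject T]
  [HasShift T ℤ] [∀ n : ℤ, (shiftFunctor T n).Additive] [Pretriangulated T] [Abelian A]

open Pretriangulated in
/-- A homological functor turns a spectral object of a triangulated category into one of an
abelian category. -/
noncomputable def mapHomological (X : Triangulated.SpectralObject T ι) (F : T ⥤ A)
    [F.IsHomological] [F.ShiftSequence ℤ] : Abelian.SpectralObject A ι where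
  H n := X.ω₁ ⋙ F.shift n
  δ' n₀ n₁ h :=
    { app := fun D => F.homologySequenceδ (X.ω₂.obj D) n₀ n₁ h
      naturality := fun _ _ φ => F.homologySequenceδ_naturality _ _ (X.ω₂.map φ) n₀ n₁ h }
  exact₁' n₀ n₁ h D :=
    (F.homologySequence_exact₁ _ (X.ω₂_obj_distinguished D) n₀ n₁ h).exact_toComposableArrows
  exact₂' n D :=
    (F.homologySequence_exact₂ _ (X.ω₂_obj_distinguished D) n).exact_toComposableArrows
  exact₃' n₀ n₁ h D :=
    (F.homologySequence_exact₃ _ (X.ω₂_obj_distinguished D) n₀ n₁ h).exact_toComposableArrows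

end MapHomological

section Graded

variable {C : Type u} [Category.{v} C] [Abelian C] {ι : Type*} [Category ι]
  (X : Abelian.SpectralObject C ι)
  {i j k l : ι} (f₁ : i ⟶ j) (f₂ : j ⟶ k) (f₃ : k ⟶ l)
  (f₁₂ : i ⟶ k) (h₁₂ : f₁ ≫ f₂ = f₁₂) (f₂₃ : j ⟶ l) (h₂₃ : f₂ ≫ f₃ = f₂₃)
  (f : i ⟶ l) (hf : f₁₂ ≫ f₃ = f) (hf' : f₁ ≫ f₂₃ = f)
  (n₀ n₁ n₂ : ℤ) (hn₁ : n₀ + 1 = n₁) (hn₂ : n₁ + 1 = n₂)
  {M : C} (e : (X.H n₁).obj (mk₁ f) ≅ M)

lemma imageSubobject_congr {P Q : C} {a b : P ⟶ Q} (h : a = b) :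
    imageSubobject a = imageSubobject b := by subst h; rfl

/-- the image of `H^n(i,k) → H^n(i,l) ≅ M` -/
noncomputable def imSub : Subobject M :=
  imageSubobject ((X.H n₁).map (twoδ₂Toδ₁ f₁₂ f₃ f hf) ≫ e.hom)

/-- the image of `H^n(i,j) → H^n(i,l) ≅ M` -/
noncomputable def imSub' : Subobject M :=
  imageSubobject ((X.H n₁).map (twoδ₂Toδ₁ f₁ f₂₃ f hf') ≫ e.hom)

include h₂₃ in
lemma map_twoδ₂Toδ₁_comp :
    (X.H n₁).map (twoδ₂Toδ₁ f₁ f₂ f₁₂ h₁₂) ≫ (X.H n₁).map (twoδ₂Toδ₁ f₁₂ f₃ f hf) =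
      (X.H n₁).map (twoδ₂Toδ₁ f₁ f₂₃ f hf') := by
  rw [← Functor.map_comp]
  congr 1
  ext
  · exact Category.id_comp _
  · exact h₂₃

lemma map_comp_twoδ₁Toδ₀ :
    (X.H n₁).map (twoδ₂Toδ₁ f₁₂ f₃ f hf) ≫ (X.H n₁).map (twoδ₁Toδ₀ f₁ f₂₃ f hf') =
      (X.H n₁).map (twoδ₁Toδ₀ f₁ f₂ f₁₂ h₁₂) ≫ (X.H n₁).map (twoδ₂Toδ₁ f₂ f₃ f₂₃ h₂₃) := by
  rw [← Functor.map_comp, ← Functor.map_comp]
  congr 1
  ext
  · exact (Category.id_comp _).trans (Category.comp_id _).symm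
  · exact (Category.comp_id _).trans (Category.id_comp _).symm

include h₁₂ h₂₃ in
lemma imSub'_le : imSub' X f₁ f₂₃ f hf' n₁ e ≤ imSub X f₃ f₁₂ f hf n₁ e := by
  refine le_trans (le_of_eq (imageSubobject_congr ?_))
    (imageSubobject_comp_le ((X.H n₁).map (twoδ₂Toδ₁ f₁ f₂ f₁₂ h₁₂)) _)
  rw [← map_twoδ₂Toδ₁_comp X f₁ f₂ f₃ f₁₂ h₁₂ f₂₃ h₂₃ f hf hf' n₁, Category.assoc]

/-- `E^n(i ≤ j ≤ k ≤ l)` is the quotient of the image of `H^n(i,k)` in `H^n(i,l)` by the image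
of `H^n(i,j)`. -/
theorem nonempty_E_iso_subquot :
    Nonempty (X.E f₁ f₂ f₃ n₀ n₁ n₂ hn₁ hn₂ ≅
      SpSeq.subquot (imSub X f₃ f₁₂ f hf n₁ e) (imSub' X f₁ f₂₃ f hf' n₁ e)
        (imSub'_le X f₁ f₂ f₃ f₁₂ h₁₂ f₂₃ h₂₃ f hf hf' n₁ e)) := by
  let a := (X.H n₁).map (twoδ₂Toδ₁ f₁₂ f₃ f hf) ≫ e.hom
  let b := (X.H n₁).map (twoδ₂Toδ₁ f₁ f₂₃ f hf') ≫ e.hom
  let c := e.inv ≫ (X.H n₁).map (twoδ₁Toδ₀ f₁ f₂₃ f hf')
  let π := X.toCycles f₁ f₂ f₁₂ h₁₂ n₁ ≫ X.πE f₁ f₂ f₃ n₀ n₁ n₂ hn₁ hn₂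
  let ι' := X.ιE f₁ f₂ f₃ n₀ n₁ n₂ hn₁ hn₂ ≫ X.fromOpcycles f₂ f₃ f₂₃ h₂₃ n₁
  have : Epi π := (inferInstance : Epi (X.cokernelSequenceE f₁ f₂ f₃ f₁₂ h₁₂ n₀ n₁ n₂ hn₁ hn₂).g)
  have : Mono ι' := (inferInstance : Mono (X.kernelSequenceE f₁ f₂ f₃ f₂₃ h₂₃ n₀ n₁ n₂ hn₁ hn₂).f)
  have hac : a ≫ c = π ≫ ι' := by
    simp only [a, c, π, ι', Category.assoc, Iso.hom_inv_id_assoc]
    rw [map_comp_twoδ₁Toδ₀ X f₁ f₂ f₃ f₁₂ h₁₂ f₂₃ h₂₃ f hf hf' n₁]
    simp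
  let p := factorThruImageSubobject a
  have hp : p ≫ (imageSubobject a).arrow = a := imageSubobject_arrow_comp a
  have hπ : kernel.ι p ≫ π = 0 := by
    have hk : kernel.ι p ≫ a = 0 := by
      refine (congrArg (kernel.ι p ≫ ·) hp).symm.trans ?_
      simp
    rw [← cancel_mono ι', Category.assoc, ← hac, reassoc_of% hk, zero_comp, zero_comp]
  let φ : (imageSubobject a : C) ⟶ X.E f₁ f₂ f₃ n₀ n₁ n₂ hn₁ hn₂ :=
    (ShortComplex.exact_kernel p).desc π hπ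
  have hφ : p ≫ φ = π := (ShortComplex.exact_kernel p).g_desc π hπ
  have : Epi φ := epi_of_epi_fac hφ
  have hφc : φ ≫ ι' = (imageSubobject a).arrow ≫ c := by
    rw [← cancel_epi p, reassoc_of% hφ, ← hac, reassoc_of% hp]
  let j' : (imageSubobject b : C) ⟶ (imageSubobject a : C) :=
    Subobject.ofLE _ _ (imSub'_le X f₁ f₂ f₃ f₁₂ h₁₂ f₂₃ h₂₃ f hf hf' n₁ e)
  have hj : j' ≫ (imageSubobject a).arrow = (imageSubobject b).arrow := Subobject.ofLE_arrow _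
  have hbc : b ≫ c = 0 := by simp [b, c]
  have hw : j' ≫ φ = 0 := by
    rw [← cancel_mono ι', Category.assoc, hφc, reassoc_of% hj, zero_comp,
      ← cancel_epi (factorThruImageSubobject b), imageSubobject_arrow_comp_assoc, hbc, comp_zero]
  have hex : (ShortComplex.mk j' φ hw).Exact := by
    rw [ShortComplex.exact_iff_exact_up_to_refinements]
    intro A x hx
    change x ≫ φ = 0 at hx
    have hx' : (x ≫ (imageSubobject a).arrow ≫ e.inv) ≫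
        (X.H n₁).map (twoδ₁Toδ₀ f₁ f₂₃ f hf') = 0 := by
      have : x ≫ (imageSubobject a).arrow ≫ c = 0 := by rw [← hφc, reassoc_of% hx, zero_comp]
      simpa [c] using this
    obtain ⟨A', π', hπ', y, hy⟩ :=
      (X.exact₂ f₁ f₂₃ f hf' n₁).exact_up_to_refinements _ hx'
    let y' : A' ⟶ (X.H n₁).obj (mk₁ f₁) := y
    have hy' : π' ≫ x ≫ (imageSubobject a).arrow ≫ e.inv =
        y' ≫ (X.H n₁).map (twoδ₂Toδ₁ f₁ f₂₃ f hf') := hy
    refine ⟨A', π', hπ', y' ≫ factorThruImageSubobject b, ?_⟩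
    change π' ≫ x = (y' ≫ factorThruImageSubobject b) ≫ j'
    rw [← cancel_mono (imageSubobject a).arrow, Category.assoc, Category.assoc, Category.assoc, hj,
      imageSubobject_arrow_comp]
    simp only [b, ← reassoc_of% hy', Iso.inv_hom_id, Category.comp_id]
  exact ⟨IsColimit.coconePointUniqueUpToIso hex.gIsCokernel (colimit.isColimit _)⟩

end Graded

section EInt

variable {C : Type u} [Category.{v} C] [Abelian C] (X : Abelian.SpectralObject C EInt)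

/-- the image of `H^n(⊥, m)` in the abutment -/
noncomputable def fil {n : ℤ} {M : C}
    (e : (X.H n).obj (mk₁ (homOfLE (bot_le : (⊥ : EInt) ≤ ⊤))) ≅ M) (m : EInt) : Subobject M :=
  imageSubobject ((X.H n).map (twoδ₂Toδ₁' ⊥ m ⊤ bot_le le_top) ≫ e.hom)

lemma fil_mono {n : ℤ} {M : C}
    (e : (X.H n).obj (mk₁ (homOfLE (bot_le : (⊥ : EInt) ≤ ⊤))) ≅ M) {a b : EInt} (h : a ≤ b) :
    fil X e a ≤ fil X e b :=
  imSub'_le X (homOfLE bot_le) (homOfLE h) (homOfLE le_top) (homOfLE bot_le) (Subsingleton.elim _ _)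
    (homOfLE le_top) (Subsingleton.elim _ _) (homOfLE bot_le) (Subsingleton.elim _ _)
    (Subsingleton.elim _ _) n e

variable [X.IsFirstQuadrant]

lemma fil_eq_bot {n : ℤ} {M : C}
    (e : (X.H n).obj (mk₁ (homOfLE (bot_le : (⊥ : EInt) ≤ ⊤))) ≅ M) (m : ℤ) (hm : m ≤ 0) :
    fil X e (m : EInt) = ⊥ := by
  have h0 := X.isZero₁_of_isFirstQuadrant ⊥ (m : EInt) bot_le (by simpa using hm) n
  unfold fil
  exact (imageSubobject_congr (h0.eq_of_src _ 0)).trans imageSubobject_zero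

lemma fil_eq_top {n : ℤ} {M : C}
    (e : (X.H n).obj (mk₁ (homOfLE (bot_le : (⊥ : EInt) ≤ ⊤))) ≅ M) (m : ℤ) (hm : n < m) :
    fil X e (m : EInt) = ⊤ := by
  have h0 := X.isZero₂_of_isFirstQuadrant (m : EInt) ⊤ le_top n (by simpa using hm)
  have : Epi ((X.H n).map (twoδ₂Toδ₁' ⊥ (m : EInt) ⊤ bot_le le_top)) :=
    (X.exact₂ (homOfLE bot_le) (homOfLE le_top) (homOfLE bot_le) rfl n).epi_f (h0.eq_of_tgt _ _)
  unfold fil
  have : Epi (image.ι ((X.H n).map (twoδ₂Toδ₁' ⊥ (m : EInt) ⊤ bot_le le_top) ≫ e.hom)) :=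
    epi_of_epi_fac (image.fac _)
  exact (Subobject.isIso_iff_mk_eq_top _).1 (isIso_of_mono_of_epi _)

/-- A first quadrant spectral object gives an `E₂` spectral sequence converging to any family of
objects identified with `H^n(⊥, ⊤)`. -/
theorem exists_abutment (H' : ℤ → C)
    (e : ∀ n : ℤ, (X.H n).obj (mk₁ (homOfLE (bot_le : (⊥ : EInt) ≤ ⊤))) ≅ H' n) :
    ∃ a : SpSeq.Abutment X.E₂SpectralSequence H', ∀ n, a.IsFinite n := by
  let F : ∀ n : ℤ, ℤ → Subobject (H' n) := fun n p => fil X (e n) ((n - p + 1 : ℤ) : EInt)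
  have hF : ∀ n, Antitone (F n) := fun n p q h => fil_mono X (e n) (by simp; omega)
  let rk : ℤ × ℤ → ℤ := fun pq => max (max (pq.2 + 2) (pq.1 + 2)) 2
  have hstat : ∀ pq, SpSeq.StationaryAt X.E₂SpectralSequence pq (rk pq) := fun pq => by
    refine ⟨le_max_right _ _, fun r hr hrk => ⟨?_, ?_⟩⟩
    · refine IsZero.eq_of_src ?_ _ _
      exact X.isZero_spectralSequence_page_X_of_isZero_H' _ _ hr _
        (X.isZero₂_of_isFirstQuadrant _ _ _ _ (by simp [rk] at hrk ⊢; omega))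
    · refine IsZero.eq_of_tgt ?_ _ _
      exact X.isZero_spectralSequence_page_X_of_isZero_H' _ _ hr _
        (X.isZero₁_of_isFirstQuadrant _ _ _ (by simp [rk] at hrk ⊢; omega) _)
  have hβ : ∀ pq : ℤ × ℤ, Nonempty ((X.E₂SpectralSequence.page (rk pq) (hstat pq).1).X pq ≅
      SpSeq.grPiece (F (pq.1 + pq.2)) (hF _) pq.1) := by
    intro pq
    set n := pq.1 + pq.2 with hn
    have hr : pq.2 + 2 ≤ rk pq ∧ pq.1 + 2 ≤ rk pq ∧ 2 ≤ rk pq :=
      ⟨le_trans (le_max_left _ _) (le_max_left _ _),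
        le_trans (le_max_right _ _) (le_max_left _ _), le_max_right _ _⟩
    let i₀ : EInt := ((pq.2 - rk pq + 2 : ℤ) : EInt)
    let i₁ : EInt := ((pq.2 : ℤ) : EInt)
    let i₂ : EInt := ((pq.2 + 1 : ℤ) : EInt)
    let i₃ : EInt := ((pq.2 + rk pq - 1 : ℤ) : EInt)
    have h₀₁ : i₀ ≤ i₁ := by simp [i₀, i₁]; omega
    have h₁₂ : i₁ ≤ i₂ := by simp [i₁, i₂]
    have h₂₃ : i₂ ≤ i₃ := by simp [i₂, i₃]; omega
    let e₁ := X.spectralSequencePageXIso Abelian.SpectralObject.coreE₂Cohomological (rk pq) hr.2.2 pq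
      i₀ i₁ i₂ i₃ rfl rfl rfl rfl (n - 1) n (n + 1) rfl (by omega) rfl
    have := X.isIso_map_fourδ₁Toδ₀_of_isZero (homOfLE (bot_le : (⊥ : EInt) ≤ i₀)) (homOfLE h₀₁)
      (homOfLE h₁₂) (homOfLE h₂₃) (homOfLE bot_le) rfl (n - 1) n (n + 1)
      (X.isZero₁_of_isFirstQuadrant _ _ _ (by simp [i₀]; omega) _) (by omega) rfl
    have := X.isIso_map_fourδ₄Toδ₃_of_isZero (homOfLE (bot_le : (⊥ : EInt) ≤ i₁)) (homOfLE h₁₂)
      (homOfLE h₂₃) (homOfLE (le_top : i₃ ≤ ⊤)) (homOfLE le_top) rfl (n - 1) n (n + 1)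
      (X.isZero₂_of_isFirstQuadrant _ _ _ _ (by simp [i₃]; omega)) (by omega) rfl
    let e₂ := asIso (X.map _ _ _ _ _ _ (fourδ₁Toδ₀ (homOfLE (bot_le : (⊥ : EInt) ≤ i₀)) (homOfLE h₀₁)
      (homOfLE h₁₂) (homOfLE h₂₃) (homOfLE bot_le) rfl) (n - 1) n (n + 1) _ rfl)
    let e₃ := asIso (X.map _ _ _ _ _ _ (fourδ₄Toδ₃ (homOfLE (bot_le : (⊥ : EInt) ≤ i₁)) (homOfLE h₁₂)
      (homOfLE h₂₃) (homOfLE (le_top : i₃ ≤ ⊤)) (homOfLE le_top) rfl) (n - 1) n (n + 1) _ rfl)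
    obtain ⟨e₄⟩ := nonempty_E_iso_subquot X (homOfLE (bot_le : (⊥ : EInt) ≤ i₁)) (homOfLE h₁₂)
      (homOfLE (le_top : i₂ ≤ ⊤)) (homOfLE bot_le) rfl (homOfLE le_top) rfl (homOfLE bot_le) rfl
      rfl (n - 1) n (n + 1) (by omega) rfl (e n)
    refine ⟨e₁ ≪≫ e₂.symm ≪≫ e₃ ≪≫ e₄ ≪≫ eqToIso ?_⟩
    have aux : ∀ {Z Z' B B' : Subobject (H' n)} (hZ : Z = Z') (hB : B = B') (h : B ≤ Z) (h' : B' ≤ Z'),
        SpSeq.subquot Z B h = SpSeq.subquot Z' B' h' := by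
      rintro Z _ B _ rfl rfl h h'; rfl
    refine aux ?_ ?_ _ _
    · show fil X (e n) i₂ = fil X (e n) _
      congr 1; simp [i₂, hn]
    · show fil X (e n) i₁ = fil X (e n) _
      congr 1; simp [i₁, hn]
  refine ⟨⟨F, hF, rk, hstat, fun pq => (hβ pq).some⟩, fun n => ⟨⟨0, ?_⟩, ⟨n + 1, ?_⟩⟩⟩
  · exact fil_eq_top X (e n) _ (by omega)
  · exact fil_eq_bot X (e n) _ (by omega)

omit [X.IsFirstQuadrant] in
/-- the objects of the second page -/
theorem nonempty_page_two_iso (p q : ℤ) :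
    Nonempty ((X.E₂SpectralSequence.page 2 le_rfl).X (p, q) ≅
      (X.H (p + q)).obj (mk₁ (homOfLE (show ((q : ℤ) : EInt) ≤ ((q + 1 : ℤ) : EInt) by simp)))) :=
  ⟨X.spectralSequencePageXIso Abelian.SpectralObject.coreE₂Cohomological 2 le_rfl (p, q)
      ((q : ℤ) : EInt) ((q : ℤ) : EInt) ((q + 1 : ℤ) : EInt) ((q + 1 : ℤ) : EInt)
      (by simp) rfl rfl (by simp [Abelian.SpectralObject.coreE₂Cohomological]; lia) (p + q - 1) (p + q) (p + q + 1) rfl (by omega) rfl ≪≫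
    X.EIsoH _ (p + q - 1) (p + q) (p + q + 1) (by omega) rfl⟩

lemma isZero_page_two (p q : ℤ) (h : ¬ (0 ≤ p ∧ 0 ≤ q)) :
    IsZero ((X.E₂SpectralSequence.page 2 le_rfl).X (p, q)) := by
  rcases not_and_or.1 h with hp | hq
  · exact X.isZero_spectralSequence_page_X_of_isZero_H' _ _ le_rfl _
      (X.isZero₂_of_isFirstQuadrant _ _ _ _ (by simp; omega))
  · exact X.isZero_spectralSequence_page_X_of_isZero_H' _ _ le_rfl _
      (X.isZero₁_of_isFirstQuadrant _ _ _ (by simp; omega) _)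

lemma isBounded : SpSeq.IsBounded X.E₂SpectralSequence := fun n => by
  refine (Set.finite_Icc 0 n).subset fun p hp => ?_
  by_contra h
  exact hp (isZero_page_two X p (n - p) fun h' => h ⟨h'.1, by omega⟩)

end EInt

end Groth.Agent.GrothSS.Core
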