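/-
Values of `H^0 ∘ RF` on the bounded below derived category.
-/
import Groth.Agent.RDPlus.Basic
import Groth.Agent.GrothSS.Acyclic
import Mathlib.CategoryTheory.Abelian.Injective.Extend

universe w w' v v' u u'

open CategoryTheory CategoryTheory.Limits CategoryTheory.Pretriangulated

namespace Groth.Agent.GrothSS.Derived

open Groth.Agent.RDPlus.Basic

variable {B : Type u} [Category.{v} B] [Abelian B] [HasDerivedCategory.{w} B] [EnoughInjectives B]
  {C : Type u'} [Category.{v'} C] [Abelian C] [HasDerivedCategory.{w'} C]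
  (F : B ⥤ C) [F.Additive]

instance injToD_mapArrow_essSurj : (injToD B).mapArrow.EssSurj where
  mem_essImage f := by
    obtain ⟨g, hg⟩ := (injToD B).map_surjective
      (((injToD B).objObjPreimageIso f.left).hom ≫ f.hom ≫ ((injToD B).objObjPreimageIso f.right).inv)
    exact ⟨Arrow.mk g, ⟨Arrow.isoMk ((injToD B).objObjPreimageIso f.left)
      ((injToD B).objObjPreimageIso f.right) (by
        show ((injToD B).objObjPreimageIso f.left).hom ≫ f.hom = (injToD B).map g ≫ _
        rw [hg]; simp)⟩⟩

/-- `H^0 ∘ RF` -/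
noncomputable abbrev G : DerivedCategory.Plus B ⥤ C :=
  F.rightDerivedFunctorPlus ⋙ DerivedCategory.Plus.homologyFunctor C 0

/-- `RF` on complexes of injectives -/
noncomputable abbrev injFun : HomotopyCategory.Plus (InjectiveObject B) ⥤ DerivedCategory.Plus C :=
  (InjectiveObject.ι B).mapHomotopyCategoryPlus ⋙ F.mapHomotopyCategoryPlus ⋙
    DerivedCategory.Plus.Qh

instance isHomological_G : (G F).IsHomological :=
  Functor.isHomological_of_localization (injToD B) (G F)
    (injFun F ⋙ DerivedCategory.Plus.homologyFunctor C 0)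
    ((Functor.associator _ _ _).symm ≪≫ Functor.isoWhiskerRight (injIso F).symm _)

/-- on complexes of injectives, `H^0 RF (Y⟦k⟧) = H^k (F Y)` -/
theorem nonempty_value_inj (L : CochainComplex.Plus (InjectiveObject B)) (k : ℤ) :
    Nonempty ((G F).obj ((DerivedCategory.Plus.Q.obj
        ((InjectiveObject.ι B).mapCochainComplexPlus.obj L))⟦k⟧) ≅
      ((F.mapHomologicalComplex _).obj
        (((InjectiveObject.ι B).mapHomologicalComplex _).obj L.obj)).homology k) := by
  let Y := (HomotopyCategory.Plus.quotient (InjectiveObject B)).obj L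
  let X := (injFun F).obj Y
  let ι₀ := DerivedCategory.Plus.ι (C := C)
  let H₀ := DerivedCategory.homologyFunctor C 0
  exact ⟨(G F).mapIso (((injToD B).commShiftIso k).symm.app Y) ≪≫
    (DerivedCategory.Plus.homologyFunctor C 0).mapIso
      (((injIso F).symm.app (Y⟦k⟧)) ≪≫ ((injFun F).commShiftIso k).app Y) ≪≫
    H₀.mapIso ((ι₀.commShiftIso k).app X) ≪≫ (H₀.isoShift k).app (ι₀.obj X) ≪≫
    (DerivedCategory.homologyFunctor C k).mapIso ((DerivedCategory.quotientCompQhIso C).app _) ≪≫
    (DerivedCategory.homologyFunctorFactors C k).app _⟩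

/-- vanishing below the amplitude -/
theorem isZero_of_isGE (Y : DerivedCategory.Plus B) (m n : ℤ) [Y.IsGE m] (h : n < m) :
    IsZero ((G F).obj (Y⟦n⟧)) := by
  obtain ⟨L, hL, ⟨e⟩⟩ := DerivedCategory.Plus.exists_injective_nonempty_iso Y m
  obtain ⟨e'⟩ := nonempty_value_inj F L n
  refine IsZero.of_iso ?_ ((G F).mapIso ((shiftFunctor _ n).mapIso e.symm) ≪≫ e')
  refine ((HomologicalComplex.exactAt_iff_isZero_homology _ n).1 ?_)
  exact ShortComplex.exact_of_isZero_X₂ _
    (F.map_isZero ((InjectiveObject.ι B).map_isZero (L.obj.isZero_of_isStrictlyGE m n h)))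

/-- complexes of acyclic objects compute `RF` -/
theorem nonempty_value_acyclic [PreservesFiniteLimits F] (K : CochainComplex.Plus B)
    (hK : ∀ i, Acyclic.Acy F (K.obj.X i)) (k : ℤ) :
    Nonempty ((G F).obj ((DerivedCategory.Plus.Q.obj K)⟦k⟧) ≅
      ((F.mapHomologicalComplex _).obj K.obj).homology k) := by
  obtain ⟨a, ha⟩ := K.property
  have : K.obj.IsStrictlyGE a := ha
  obtain ⟨L, hL, i, hi⟩ := CochainComplex.Plus.exists_quasiIso_injective K a
  have : QuasiIso i.hom := hi
  have : CochainComplex.IsStrictlyGE ((InjectiveObject.ι B).mapCochainComplexPlus.obj L).obj a :=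
    (CochainComplex.isStrictlyGE_mapHomologicalComplex_obj_iff L.obj (InjectiveObject.ι B) a).2 hL
  have : IsIso (DerivedCategory.Plus.Q.map i) := by
    have : IsIso (DerivedCategory.Qh.map ((HomotopyCategory.quotient B (ComplexShape.up ℤ)).map i.hom)) :=
      (NatIso.isIso_map_iff (DerivedCategory.quotientCompQhIso B) i.hom).2 inferInstance
    have : IsIso (DerivedCategory.Plus.ι.map (DerivedCategory.Plus.Q.map i)) := this
    exact isIso_of_fully_faithful DerivedCategory.Plus.ι _
  have : (Acyclic.Acy F).IsClosedUnderIsomorphisms :=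
    ⟨fun e h q hq => (h q hq).of_iso ((F.rightDerived q).mapIso e.symm)⟩
  have := Acyclic.isIso_Q_map (Acyclic.goodClass F) (fun _ _ h h' => Acyclic.acy_biprod F h h')
    i.hom a a hK
    (fun n =>
      have : Injective (((InjectiveObject.ι B).mapCochainComplexPlus.obj L).obj.X n) :=
        (L.obj.X n).property
      Acyclic.acy_of_injective F _)
  obtain ⟨e⟩ := nonempty_value_inj F L k
  exact ⟨(G F).mapIso ((shiftFunctor _ k).mapIso (asIso (DerivedCategory.Plus.Q.map i))) ≪≫ e ≪≫
    (DerivedCategory.homologyFunctorFactors C k).symm.app _ ≪≫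
    (DerivedCategory.homologyFunctor C k).mapIso
      (asIso (DerivedCategory.Q.map ((F.mapHomologicalComplex _).map i.hom))).symm ≪≫
    (DerivedCategory.homologyFunctorFactors C k).app _⟩

end Groth.Agent.GrothSS.Derived
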