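/-
The Grothendieck spectral sequence of a composite of functors.
-/
import Groth.Agent.GrothSS.Core
import Groth.Agent.GrothSS.Derived
import Mathlib.Algebra.Homology.Embedding.ExtendHomology
import Mathlib.Algebra.Homology.DerivedCategory.FullyFaithful
import Mathlib.CategoryTheory.Triangulated.TStructure.SpectralObject

universe w w' v v' v'' u u' u''

open CategoryTheory CategoryTheory.Limits CategoryTheory.Pretriangulated
  CategoryTheory.ComposableArrows
open scoped ZeroObject

namespace Groth.Agent.GrothSS.Main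

section Extend

variable {B : Type u} [Category.{v} B] [Abelian B] {C : Type u'} [Category.{v'} C] [Abelian C]
  (F : B ⥤ C) [F.Additive] (K : CochainComplex B ℕ)

lemma glue {D : Type*} [Category D] {X X' P Q Q' R : D} (a : X ≅ P) (b : X' ≅ P) (g : P ⟶ Q)
    (a' : Q' ≅ Q) (c : R ≅ Q) :
    (a ≪≫ b.symm).hom ≫ b.hom ≫ g ≫ c.inv = (a.hom ≫ g ≫ a'.inv) ≫ (a' ≪≫ c.symm).hom := by
  simp

/-- extension by zero commutes with an additive functor -/
noncomputable def mapExtendIso :
    (F.mapHomologicalComplex (ComplexShape.up ℤ)).obj (K.extend ComplexShape.embeddingUpNat) ≅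
      HomologicalComplex.extend ((F.mapHomologicalComplex (ComplexShape.up ℕ)).obj K)
        ComplexShape.embeddingUpNat :=
  HomologicalComplex.Hom.isoOfComponents
    (fun n => if hn : 0 ≤ n then
        F.mapIso (K.extendXIso ComplexShape.embeddingUpNat (i := n.toNat) (by simp; omega)) ≪≫
          (HomologicalComplex.extendXIso ((F.mapHomologicalComplex (ComplexShape.up ℕ)).obj K)
            ComplexShape.embeddingUpNat (i := n.toNat) (by simp; omega)).symm
      else IsZero.iso (F.map_isZero (K.isZero_extend_X _ _ (by simp; omega)))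
        (HomologicalComplex.isZero_extend_X _ _ _ (by simp; omega)))
    (fun i j (hij : i + 1 = j) => by
      by_cases hi : 0 ≤ i
      · rw [dif_pos hi, dif_pos (by omega : 0 ≤ j)]
        rw [Functor.mapHomologicalComplex_obj_d,
          K.extend_d_eq ComplexShape.embeddingUpNat (i := i.toNat) (j := j.toNat)
            (by simp; omega) (by simp; omega),
          HomologicalComplex.extend_d_eq _ ComplexShape.embeddingUpNat (i := i.toNat) (j := j.toNat)
            (by simp; omega) (by simp; omega)]
        rw [F.map_comp, F.map_comp]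
        exact glue _ _ _ (F.mapIso _) _
      · exact (F.map_isZero (K.isZero_extend_X _ _ (by simp; omega))).eq_of_src _ _)

lemma nonempty_homology_extend (k : ℕ) :
    Nonempty (((F.mapHomologicalComplex (ComplexShape.up ℤ)).obj
        (K.extend ComplexShape.embeddingUpNat)).homology (k : ℤ) ≅
      ((F.mapHomologicalComplex (ComplexShape.up ℕ)).obj K).homology k) :=
  ⟨(HomologicalComplex.homologyFunctor C _ (k : ℤ)).mapIso (mapExtendIso F K) ≪≫
    HomologicalComplex.extendHomologyIso _ ComplexShape.embeddingUpNat (by simp)⟩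

variable [EnoughInjectives B]

lemma nonempty_homology_resolution {X : B} (I : InjectiveResolution X) (k : ℕ) :
    Nonempty (((F.mapHomologicalComplex (ComplexShape.up ℤ)).obj I.cochainComplex).homology (k : ℤ) ≅
      (F.rightDerived k).obj X) := by
  obtain ⟨e⟩ := nonempty_homology_extend F I.cocomplex k
  exact ⟨e ≪≫ (I.isoRightDerivedObj F k).symm⟩

omit [EnoughInjectives B] in
lemma isZero_homology_resolution {X : B} (I : InjectiveResolution X) (k : ℤ) (hk : k < 0) :
    IsZero (((F.mapHomologicalComplex (ComplexShape.up ℤ)).obj I.cochainComplex).homology k) :=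
  (HomologicalComplex.exactAt_iff_isZero_homology _ k).1 (ShortComplex.exact_of_isZero_X₂ _
    (F.map_isZero (I.cochainComplex.isZero_of_isStrictlyGE 0 k hk)))

end Extend

section Single

variable {B : Type u} [Category.{v} B] [Abelian B] [HasDerivedCategory.{w} B] [EnoughInjectives B]
  {C : Type u'} [Category.{v'} C] [Abelian C] [HasDerivedCategory.{w'} C]
  (F : B ⥤ C) [F.Additive]

/-- `H^0 RF` on shifted single objects -/
theorem nonempty_value_single (X : B) (Y : DerivedCategory.Plus B) (q n : ℤ)
    (e : Y.obj ≅ (DerivedCategory.singleFunctor B q).obj X) (k : ℕ) (hk : n = q + k) :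
    Nonempty ((Derived.G F).obj (Y⟦n⟧) ≅ (F.rightDerived k).obj X) := by
  let I : InjectiveResolution X := Classical.choice (HasInjectiveResolution.out (Z := X))
  have : Mono (I.ι.f 0) := inferInstance
  let L : CochainComplex.Plus (InjectiveObject B) :=
    ⟨HomologicalComplex.liftObjectProperty _ I.cochainComplex
      (fun i => inferInstanceAs (Injective (I.cochainComplex.X i))), ⟨0,
      (CochainComplex.isStrictlyGE_mapHomologicalComplex_obj_iff _ (InjectiveObject.ι B) 0).1
        (inferInstanceAs (I.cochainComplex.IsStrictlyGE 0))⟩⟩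
  let J := DerivedCategory.Plus.Q.obj ((InjectiveObject.ι B).mapCochainComplexPlus.obj L)
  let eJ : J.obj ≅ (DerivedCategory.singleFunctor B 0).obj X :=
    (DerivedCategory.quotientCompQhIso B).app I.cochainComplex ≪≫
      (asIso (DerivedCategory.Q.map I.ι')).symm ≪≫
      ((DerivedCategory.singleFunctorIsoCompQ B 0).app X).symm
  let P := DerivedCategory.Plus.ι (C := B)
  let S := DerivedCategory.singleFunctors B
  have e' : Y⟦n⟧ ≅ J⟦(k : ℤ)⟧ := P.preimageIso
    ((P.commShiftIso n).app Y ≪≫ (shiftFunctor _ n).mapIso e ≪≫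
      (S.shiftIso n (-(k : ℤ)) q (by omega)).app X ≪≫
      ((S.shiftIso (k : ℤ) (-(k : ℤ)) 0 (by omega)).app X).symm ≪≫
      (shiftFunctor _ (k : ℤ)).mapIso eJ.symm ≪≫ ((P.commShiftIso (k : ℤ)).app J).symm)
  obtain ⟨e₁⟩ := Derived.nonempty_value_inj F L (k : ℤ)
  obtain ⟨e₂⟩ := nonempty_homology_resolution F I k
  exact ⟨(Derived.G F).mapIso e' ≪≫ e₁ ≪≫ e₂⟩

omit [EnoughInjectives B] in
/-- truncation to one degree does not change cohomology in that degree -/
theorem nonempty_truncation_iso (K : DerivedCategory.Plus B) (q : ℤ) :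
    Nonempty (((DerivedCategory.Plus.TStructure.t.truncGE q).obj
        ((DerivedCategory.Plus.TStructure.t.truncLT (q + 1)).obj K)).obj ≅
      (DerivedCategory.singleFunctor B q).obj
        ((DerivedCategory.homologyFunctor B q).obj K.obj)) := by
  let t := DerivedCategory.Plus.TStructure.t (C := B)
  let A := (t.truncLT (q + 1)).obj K
  let Y := (t.truncGE q).obj A
  have : Y.IsGE q := inferInstanceAs (t.IsGE _ q)
  have : Y.IsLE q := by
    have : t.IsLE A q := inferInstance
    exact t.isLE₂ _ (rot_of_distTriang _ (t.triangleLTGE_distinguished q A)) q (by assumption)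
      (by
        have h1 : t.IsLE ((t.triangleLTGE q).obj A).obj₁ (q - 1) := inferInstance
        have h2 := t.isLE_shift ((t.triangleLTGE q).obj A).obj₁ (q - 1) 1 (q - 1 - 1) (by omega)
        exact t.isLE_of_le (((t.triangleLTGE q).obj A).obj₁⟦(1 : ℤ)⟧) (q - 1 - 1) q (by omega))
  have hY : (DerivedCategory.Plus.ι.obj Y).IsGE q := inferInstance
  have hY' : (DerivedCategory.Plus.ι.obj Y).IsLE q := inferInstance
  obtain ⟨M, ⟨e⟩⟩ :=
    DerivedCategory.exists_iso_singleFunctor_obj_of_isGE_of_isLE (DerivedCategory.Plus.ι.obj Y) q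
  let H := DerivedCategory.homologyFunctor B q
  have h1 := DerivedCategory.Plus.ι.map_distinguished _ (t.triangleLTGE_distinguished (q + 1) K)
  have h2 := DerivedCategory.Plus.ι.map_distinguished _ (t.triangleLTGE_distinguished q A)
  have i1 : IsIso (H.map (DerivedCategory.Plus.ι.map ((t.truncLTι (q + 1)).app K))) := by
    have : ((t.triangleLTGE (q + 1)).obj K).obj₃.IsGE (q + 1) :=
      inferInstanceAs (t.IsGE _ (q + 1))
    have hm : Mono (H.map (DerivedCategory.Plus.ι.map ((t.truncLTι (q + 1)).app K))) :=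
      (DerivedCategory.HomologySequence.exact₁ _ h1 (q - 1) q (by omega)).mono_g
        ((DerivedCategory.Plus.isZero_homology_of_isGE _ (q + 1) (q - 1) (by omega)).eq_of_src _ _)
    have he : Epi (H.map (DerivedCategory.Plus.ι.map ((t.truncLTι (q + 1)).app K))) :=
      (DerivedCategory.HomologySequence.exact₂ _ h1 q).epi_f
        ((DerivedCategory.Plus.isZero_homology_of_isGE _ (q + 1) q (by omega)).eq_of_tgt _ _)
    exact isIso_of_mono_of_epi _
  have i2 : IsIso (H.map (DerivedCategory.Plus.ι.map ((t.truncGEπ q).app A))) := by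
    have : ((t.triangleLTGE q).obj A).obj₁.IsLE (q - 1) := inferInstanceAs (t.IsLE _ (q - 1))
    have hm : Mono (H.map (DerivedCategory.Plus.ι.map ((t.truncGEπ q).app A))) :=
      (DerivedCategory.HomologySequence.exact₂ _ h2 q).mono_g
        ((DerivedCategory.Plus.isZero_homology_of_isLE _ (q - 1) q (by omega)).eq_of_src _ _)
    have he : Epi (H.map (DerivedCategory.Plus.ι.map ((t.truncGEπ q).app A))) :=
      (DerivedCategory.HomologySequence.exact₃ _ h2 q (q + 1) rfl).epi_f
        ((DerivedCategory.Plus.isZero_homology_of_isLE _ (q - 1) (q + 1) (by omega)).eq_of_tgt _ _)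
    exact isIso_of_mono_of_epi _
  exact ⟨e ≪≫ (DerivedCategory.singleFunctor B q).mapIso
    (((DerivedCategory.singleFunctorCompHomologyFunctorIso B q).app M).symm ≪≫
      H.mapIso e.symm ≪≫
      (asIso (H.map (DerivedCategory.Plus.ι.map ((t.truncGEπ q).app A)))).symm ≪≫
      asIso (H.map (DerivedCategory.Plus.ι.map ((t.truncLTι (q + 1)).app K))))⟩

end Single

open scoped Classical in
/-- Grothendieck's spectral sequence. -/
theorem exists_spectralSequence {A : Type u} [Category.{v} A] [Abelian A] [EnoughInjectives A]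
    {B : Type u'} [Category.{v'} B] [Abelian B] [EnoughInjectives B]
    {C : Type u''} [Category.{v''} C] [Abelian C]
    (T : A ⥤ B) [T.Additive] (S : B ⥤ C) [S.Additive] [PreservesFiniteLimits S]
    (hT : ∀ Q : A, Injective Q → ∀ q : ℕ, 0 < q → IsZero ((S.rightDerived q).obj (T.obj Q)))
    (X : A) :
    ∃ (E : E₂CohomologicalSpectralSequence C)
      (a : SpSeq.Abutment E (fun n : ℤ => if 0 ≤ n then ((T ⋙ S).rightDerived n.toNat).obj X else 0)),
      (∀ n, a.IsFinite n) ∧ SpSeq.IsBounded E ∧
      ∀ p q : ℤ, Nonempty ((E.page 2 le_rfl).X (p, q) ≅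
        (if 0 ≤ p ∧ 0 ≤ q then (S.rightDerived p.toNat).obj ((T.rightDerived q.toNat).obj X) else 0)) := by
  let : HasDerivedCategory B := HasDerivedCategory.standard B
  let : HasDerivedCategory C := HasDerivedCategory.standard C
  let I : InjectiveResolution X := Classical.choice (HasInjectiveResolution.out (Z := X))
  let J : CochainComplex.Plus B :=
    ⟨(T.mapHomologicalComplex _).obj I.cochainComplex, ⟨0,
      inferInstanceAs (CochainComplex.IsStrictlyGE
        ((T.mapHomologicalComplex (ComplexShape.up ℤ)).obj I.cochainComplex) 0)⟩⟩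
  let K := DerivedCategory.Plus.Q.obj J
  let t := DerivedCategory.Plus.TStructure.t (C := B)
  let G := Derived.G S
  let : G.ShiftSequence ℤ := Functor.ShiftSequence.tautological G ℤ
  have hK : t.IsGE K 0 := by
    have : CochainComplex.IsStrictlyGE J.obj 0 :=
      inferInstanceAs (CochainComplex.IsStrictlyGE
        ((T.mapHomologicalComplex (ComplexShape.up ℤ)).obj I.cochainComplex) 0)
    exact (DerivedCategory.Plus.isGE_ι_obj_iff _ 0).1
      (DerivedCategory.TStructure.t.isGE_of_iso
        ((DerivedCategory.quotientCompQhIso B).app J.obj).symm 0)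
  let Ω := Core.mapHomological (t.spectralObject K) G
  have hΩ : Ω.IsFirstQuadrant := by
    refine ⟨fun i j hij hj n => ?_, fun i j hij n hn => ?_⟩
    · have h0 : IsZero ((t.eTruncLT.obj j).obj K) := t.isZero_eTruncLT_obj_obj K 0 j hj
      exact G.map_isZero ((shiftFunctor _ n).map_isZero ((t.eTruncGE.obj i).map_isZero h0))
    · have : DerivedCategory.Plus.IsGE ((t.eTruncGE.obj i).obj ((t.eTruncLT.obj j).obj K)) (n + 1) :=
        t.isGE_eTruncGE_obj_obj (n + 1) i (by
          induction i using WithBotTop.rec <;> simp at hn ⊢ <;> omega) _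
      exact Derived.isZero_of_isGE S ((t.eTruncGE.obj i).obj ((t.eTruncLT.obj j).obj K)) (n + 1) n
        (by omega)
  have hJ : ∀ i, Acyclic.Acy S (J.obj.X i) := fun i q hq =>
    hT (I.cochainComplex.X i) inferInstance q hq
  have he : ∀ n : ℤ, Nonempty ((Ω.H n).obj (mk₁ (homOfLE (bot_le : (⊥ : EInt) ≤ ⊤))) ≅
      if 0 ≤ n then ((T ⋙ S).rightDerived n.toNat).obj X else 0) := fun n => by
    obtain ⟨e₁⟩ := Derived.nonempty_value_acyclic S J hJ n
    by_cases hn : 0 ≤ n
    · rw [if_pos hn]
      obtain ⟨k, rfl⟩ := Int.eq_ofNat_of_zero_le hn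
      obtain ⟨e₂⟩ := nonempty_homology_resolution (T ⋙ S) I k
      exact ⟨e₁ ≪≫ e₂⟩
    · rw [if_neg hn]
      exact ⟨e₁ ≪≫ (isZero_homology_resolution (T ⋙ S) I n (by omega)).isoZero⟩
  obtain ⟨a, ha⟩ := Core.exists_abutment Ω _ (fun n => (he n).some)
  refine ⟨Ω.E₂SpectralSequence, a, ha, Core.isBounded Ω, fun p q => ?_⟩
  by_cases hpq : 0 ≤ p ∧ 0 ≤ q
  · rw [if_pos hpq]
    obtain ⟨e₁⟩ := Core.nonempty_page_two_iso Ω p q
    obtain ⟨e₂⟩ := nonempty_truncation_iso K q
    obtain ⟨e₃⟩ := nonempty_value_single S _ _ q (p + q) e₂ p.toNat (by omega)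
    obtain ⟨e₄⟩ := nonempty_homology_resolution T I q.toNat
    refine ⟨e₁ ≪≫ e₃ ≪≫ (S.rightDerived p.toNat).mapIso ?_⟩
    refine (DerivedCategory.homologyFunctor B q).mapIso
        ((DerivedCategory.quotientCompQhIso B).app J.obj) ≪≫
      (DerivedCategory.homologyFunctorFactors B q).app _ ≪≫ eqToIso ?_ ≪≫ e₄
    show HomologicalComplex.homology J.obj q = HomologicalComplex.homology J.obj (q.toNat : ℤ)
    rw [Int.toNat_of_nonneg hpq.2]
  · rw [if_neg hpq]
    exact ⟨(Core.isZero_page_two Ω p q hpq).isoZero⟩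

/-- enough injectives from injective resolutions -/
theorem enoughInjectives {A : Type u} [Category.{v} A] [Abelian A] [HasInjectiveResolutions A] :
    EnoughInjectives A :=
  ⟨fun X => by
    obtain ⟨⟨I⟩⟩ := HasInjectiveResolutions.out (C := A) X
    let ι₀ : X ⟶ I.cocomplex.X 0 := I.ι.f 0
    have : Mono ι₀ := inferInstanceAs (Mono (I.ι.f 0))
    exact ⟨⟨I.cocomplex.X 0, inferInstance, ι₀, this⟩⟩⟩

end Groth.Agent.GrothSS.Main
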